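import Cfsg.Agent.H115.HC.TwoDFour
import Cfsg.Agent.H53.HC.RgdLevi
import Cfsg.Agent.H383.HT.PglAbs

/-!
# `³D₄(q)`: the projection of the parabolic subgroup `P₁` onto `PGL₂(q)` (helper383, box `f` of the row `³D₄`)

`exists_f` : a surjective homomorphism `f : P_{0} → PGL₂(F_q)` which is trivial on the unipotent radical and on the
centraliser of `M_{0}` in the Levi subgroup, and which maps `x₁₄(t)` to the class of the transvection.
-/

set_option autoImplicit false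
set_option linter.unusedSectionVars false

open Cfsg

namespace Cfsg.Agent.H383.HT.Proj

open CoxeterSystem Cfsg.Agent.ChevalleyStructure.CoxeterGeom Cfsg.Agent.Tits.Roots Cfsg.Agent.Tits.Core
  Cfsg.Agent.Tits.RootComb Cfsg.Agent.Nodes.Comb Cfsg.Agent.Nodes.Reps Cfsg.Agent.Nodes.BNOf
  Cfsg.Agent.Nodes.BNOf.RGD Cfsg.Agent.Nodes.RGDChev Cfsg.Agent.Nodes.RGDFold
open Cfsg.Agent.Nodes.Bruhat Cfsg.Agent.Nodes.LeviDec Cfsg.Agent.H53.HC Cfsg.Agent.H115.HC.Two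
open Cfsg.Lie Cfsg.Agent.ChevalleyStructure Cfsg.Agent.ChevalleyStructure.TwistedU
  Cfsg.Agent.ChevalleyStructure.TwistedFix Cfsg.Agent.ChevalleyStructure.TwistedFixOrbit
open Cfsg.Agent.Nodes.RGDFoldSL
open Cfsg.Agent.ChevalleyStructure.SL2Hom (up lo mem_closure_SL2)
open Cfsg.Agent.BiChar.TwDFour
open Cfsg.Agent.H115.HC.TwDFour
open Cfsg.Agent.H383.HT.PglAbs

variable {K : Type} [Field K] {q : ℕ} {φ : K →+* K}

section

variable (hφ : ∀ x, φ x = x ^ q) (hle : twistedD4 K q ≤ D4Fixed.fix φ)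

/-- the field of `q` elements -/
abbrev Fq (φ : K →+* K) := ↥(Fx φ ((Nodes.RGDTwNode.D4.rest 0).length + 1))

theorem coe_up0 (d : Fq φ) : ((Ph hφ hle 0 (up d) : ↥(twistedD4 K q)) : GL chevD4.Idx K) =
    Elts.xG Nodes.RGDTwD4.hp.inList 14 (d : K) := by
  have := coe_Phi_up (Nodes.RGDTwD4.foldGrp hφ hle) (Nodes.RGDTwNode.D4.nodeOK 0) (hf φ 0) d
  refine this.trans ?_
  change Elts.xG Nodes.RGDTwD4.hp.inList 14 (d : K) * 1 = _
  rw [mul_one]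

theorem coe_lo0 (d : Fq φ) : ((Ph hφ hle 0 (lo d) : ↥(twistedD4 K q)) : GL chevD4.Idx K) =
    Elts.xG Nodes.RGDTwD4.hp.inList 9 (d : K) := by
  show hv (psi Nodes.RGDTwD4.hp.inList K) φ [14] (Matrix.SpecialLinearGroup.map (Fx φ _).subtype (lo d)) = _
  rw [map_lo]
  show psi Nodes.RGDTwD4.hp.inList K 14 (lo (d : K)) * 1 = _
  have tab : chevD4.neg 14 = 9 := by decide +kernel
  rw [psi_lo _ (by decide +kernel), tab, mul_one]

theorem ctab14 : (chevD4.cartan 0 14 = -1 ∧ chevD4.cartan 2 14 = -1 ∧ chevD4.cartan 3 14 = -1) ∧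
    (chevD4.cartan 0 9 = 1 ∧ chevD4.cartan 2 9 = 1 ∧ chevD4.cartan 3 9 = 1) ∧ 14 < chevD4.nroots ∧
    9 < chevD4.nroots := by decide +kernel

/-- `diag(c, 1)` -/
noncomputable def dg {F : Type*} [Field F] (c : Fˣ) : GL (Fin 2) F :=
  ⟨!![(c : F), 0; 0, 1], !![((c⁻¹ : Fˣ) : F), 0; 0, 1], by
    rw [Matrix.mul_fin_two, Matrix.one_fin_two]
    simp, by
    rw [Matrix.mul_fin_two, Matrix.one_fin_two]
    simp⟩

theorem cjS_dg_up {F : Type*} [Field F] (c : Fˣ) (r : F) : cjS (dg c) (up r) = up ((c : F) * r) := by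
  apply cjS_eq_of
  change !![(c : F), 0; 0, 1] * !![1, r; 0, 1] = !![1, (c : F) * r; 0, 1] * !![(c : F), 0; 0, 1]
  rw [Matrix.mul_fin_two, Matrix.mul_fin_two]
  simp

theorem cjS_dg_lo {F : Type*} [Field F] (c : Fˣ) (r : F) : cjS (dg c) (lo r) = lo (((c⁻¹ : Fˣ) : F) * r) := by
  apply cjS_eq_of
  change !![(c : F), 0; 0, 1] * !![1, 0; r, 1] = !![1, 0; ((c⁻¹ : Fˣ) : F) * r, 1] * !![(c : F), 0; 0, 1]
  rw [Matrix.mul_fin_two, Matrix.mul_fin_two]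
  have h1 : ((c⁻¹ : Fˣ) : F) * r * (c : F) = r := by rw [mul_right_comm, Units.inv_mul, one_mul]
  rw [h1]
  simp

/-- the elements `h_b(d)` act as `diag(N(d)⁻¹, 1)` -/
theorem rel_h {d : Fx φ ((Nodes.RGDTwNode.D4.rest 1).length + 1)} (hd : d ≠ 0) {c : (Fq φ)ˣ}
    (hc : ((c : Fq φ) : K) * ((d : K) * φ (d : K) * φ (φ (d : K))) = 1) :
    Rel (Ph hφ hle 0) (Ph hφ hle 1 (hS d)) (dg c) := by
  have hd' : (d : K) ≠ 0 := fun h => hd (Subtype.ext h)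
  have hd1 : φ (d : K) ≠ 0 := (map_ne_zero φ).2 hd'
  have hd2 : φ (φ (d : K)) ≠ 0 := (map_ne_zero φ).2 hd1
  obtain ⟨⟨a0, a2, a3⟩, ⟨b0, b2, b3⟩, l14, l9⟩ := ctab14
  have hcK : ((c : Fq φ) : K) = ((d : K) * φ (d : K) * φ (φ (d : K)))⁻¹ :=
    eq_inv_of_mul_eq_one_left hc
  have hcK' : (((c⁻¹ : (Fq φ)ˣ) : Fq φ) : K) = (d : K) * φ (d : K) * φ (φ (d : K)) := by
    have h1 : (((c⁻¹ : (Fq φ)ˣ) : Fq φ) : K) * ((c : Fq φ) : K) = 1 := by
      have := congrArg (Subtype.val : Fq φ → K) (Units.inv_mul c)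
      exact this
    rw [hcK] at h1
    exact (mul_inv_eq_one₀ (mul_ne_zero (mul_ne_zero hd' hd1) hd2)).1 h1
  refine Rel.of_gen (fun r => ?_) fun r => ?_
  · rw [cjS_dg_up, mul_inv_eq_iff_eq_mul]
    apply Subtype.ext
    rw [Subgroup.coe_mul, Subgroup.coe_mul, coe_up0, coe_up0, Ph1_xG hφ hle hd l14, a0, a2, a3, zpow_neg, zpow_one,
      zpow_neg, zpow_one, zpow_neg, zpow_one]
    congr 2
    change _ = ((c : Fq φ) : K) * (r : K)
    rw [hcK, mul_inv, mul_inv]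
  · rw [cjS_dg_lo, mul_inv_eq_iff_eq_mul]
    apply Subtype.ext
    rw [Subgroup.coe_mul, Subgroup.coe_mul, coe_lo0, coe_lo0, Ph1_xG hφ hle hd l9, b0, b2, b3, zpow_one, zpow_one,
      zpow_one]
    congr 2
    change _ = (((c⁻¹ : (Fq φ)ˣ) : Fq φ) : K) * (r : K)
    rw [hcK']

end

variable [Fintype K] {p : ℕ} [Fact p.Prime] [CharP K p] (hφ : ∀ x, φ x = x ^ q)
  (hle : twistedD4 K q ≤ D4Fixed.fix φ) (hK : Fintype.card K = q ^ 3)

include p hK in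
/-- the two opposite root groups meet trivially -/
theorem up_lo {a b : Fq φ} (h : Ph hφ hle 0 (up a) = Ph hφ hle 0 (lo b)) : a = 0 := by
  have : Finite CoxeterMatrix.G₂.Group := Nodes.RGDChev.finite_W Cfsg.Agent.BiChar.GTwo.isType cs
  have R := Nodes.RGDTwD4.rgd (K := K) cs hK hφ p
  by_contra ha
  have h1 : Ph hφ hle 0 (up a) ∈ Nodes.RGDTwD4.X φ q (sr 0) := (mem_X hφ hle 0 _).2 ⟨_, rfl⟩
  have hcj : cj (Nodes.RGDTwD4.n hφ 0) (Nodes.RGDTwD4.X φ q (sr 0)) = Nodes.RGDTwD4.X φ q (-sr 0) := by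
    rw [R.conj 0 _ (isRoot_sr cs Nodes.RGDTwD4.isCartan 0), rep_simple_sr]
  have h2 : Ph hφ hle 0 (lo b) ∈ Nodes.RGDTwD4.X φ q (-sr 0) := by
    rw [lo_eq, map_mul, map_mul, map_inv, Cfsg.Agent.BiChar.TwDFour.Ph_wS, ← hcj]
    exact conj_mem_cj.2 ((mem_X hφ hle 0 _).2 ⟨_, rfl⟩)
  rw [← h] at h2
  have h3 : Ph hφ hle 0 (up a) ≠ 1 := by
    intro h3
    have e0 : (up 0 : Matrix.SpecialLinearGroup (Fin 2) (Fq φ)) = 1 := by
      apply Subtype.ext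
      exact Matrix.one_fin_two.symm
    rw [← map_one (Ph hφ hle 0), ← e0] at h3
    exact ha (up_inj hφ hle 0 h3)
  obtain ⟨x, hx, t, ht, y, hy, e⟩ := R.rk1 0 _ h2 h3
  have hX : Nodes.RGDTwD4.X φ q (sr 0) ≤ RGD.B cs Nodes.RGDTwD4.isCartan (Nodes.RGDTwD4.T K q)
      (Nodes.RGDTwD4.X φ q) := RGD.X_le_B (isRoot_sr cs Nodes.RGDTwD4.isCartan 0) (sr_nonneg 0)
  have hB : Nodes.RGDTwD4.n hφ 0 ∈ RGD.B cs Nodes.RGDTwD4.isCartan (Nodes.RGDTwD4.T K q)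
      (Nodes.RGDTwD4.X φ q) := by
    have e1 : Nodes.RGDTwD4.n hφ 0 = t⁻¹ * (x⁻¹ * Ph hφ hle 0 (up a) * y⁻¹) := by
      rw [e]
      group
    rw [e1]
    exact mul_mem (inv_mem (RGD.T_le_B ht)) (mul_mem (mul_mem (inv_mem (hX hx)) (hX h1)) (inv_mem (hX hy)))
  have h4 := R.eq_one_of_mem_B (rp_simple cs R.nsys 0) hB
  have h5 := cs.length_simple 0
  rw [h4, cs.length_one] at h5
  exact zero_ne_one h5

include p hK in
theorem range_Ph0 : (Ph hφ hle 0).range = MJ cs Nodes.RGDTwD4.isCartan (Nodes.RGDTwD4.X φ q) {0} := by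
  rw [MJ_single]
  have R := Nodes.RGDTwD4.rgd (K := K) cs hK hφ p
  have hcj : cj (Nodes.RGDTwD4.n hφ 0) (Nodes.RGDTwD4.X φ q (sr 0)) = Nodes.RGDTwD4.X φ q (-sr 0) := by
    rw [R.conj 0 _ (isRoot_sr cs Nodes.RGDTwD4.isCartan 0), rep_simple_sr]
  apply le_antisymm
  · rintro _ ⟨g, rfl⟩
    exact Ph_mem (p := p) hφ hle hK 0 g
  · refine sup_le ?_ ?_
    · intro g hg
      obtain ⟨a, rfl⟩ := (mem_X hφ hle 0 g).1 hg
      exact ⟨_, rfl⟩
    · rw [← hcj]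
      intro g hg
      rw [mem_cj] at hg
      obtain ⟨a, ha⟩ := (mem_X hφ hle 0 _).1 hg
      refine ⟨wS 1 * up a * (wS 1)⁻¹, ?_⟩
      rw [map_mul, map_mul, map_inv, Cfsg.Agent.BiChar.TwDFour.Ph_wS, ← ha]
      group

include hφ hK in
/-- the norm is surjective -/
theorem exists_norm (c : (Fq φ)ˣ) : ∃ d : Fx φ ((Nodes.RGDTwNode.D4.rest 1).length + 1), d ≠ 0 ∧
    ((c : Fq φ) : K) * ((d : K) * φ (d : K) * φ (φ (d : K))) = 1 := by
  have hq1 : 1 < q := by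
    by_contra h
    have h1 : q = 0 ∨ q = 1 := by omega
    have h2 := Fintype.one_lt_card (α := K)
    rcases h1 with h1 | h1 <;> rw [hK, h1] at h2 <;> norm_num at h2
  obtain ⟨g, hg⟩ := IsCyclic.exists_monoid_generator (α := Kˣ)
  have hc0 : ((c : Fq φ) : K) ≠ 0 := fun h => c.ne_zero (Subtype.ext h)
  have hcq : ((c : Fq φ) : K) ^ q = ((c : Fq φ) : K) := by
    rw [← hφ]
    exact mem_Fx.1 (c : Fq φ).2
  obtain ⟨k, hk⟩ := hg (Units.mk0 _ hc0)⁻¹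
  have hord : orderOf g = q ^ 3 - 1 := by
    rw [orderOf_eq_card_of_forall_mem_powers hg, Nat.card_units, Nat.card_eq_fintype_card, hK]
  have hpow : g ^ (k * (q - 1)) = 1 := by
    have h1 : g ^ k = (Units.mk0 _ hc0)⁻¹ := hk
    rw [pow_mul, h1, inv_pow, inv_eq_one]
    apply Units.ext
    rw [Units.val_pow_eq_pow_val, Units.val_mk0, Units.val_one]
    have h2 : ((c : Fq φ) : K) ^ (q - 1) * ((c : Fq φ) : K) = 1 * ((c : Fq φ) : K) := by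
      rw [← pow_succ, Nat.sub_add_cancel hq1.le, hcq, one_mul]
    exact mul_right_cancel₀ hc0 h2
  have hdvd : (q ^ 2 + q + 1) ∣ k := by
    have h1 := orderOf_dvd_of_pow_eq_one hpow
    rw [hord] at h1
    obtain ⟨m, rfl⟩ := Nat.exists_eq_add_of_lt hq1
    have e1 : 1 + m + 1 - 1 = m + 1 := by omega
    have e2 : (1 + m + 1) ^ 3 - 1 = ((1 + m + 1) ^ 2 + (1 + m + 1) + 1) * (m + 1) := by
      rw [show (1 + m + 1) ^ 3 = ((1 + m + 1) ^ 2 + (1 + m + 1) + 1) * (m + 1) + 1 by ring]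
      rfl
    rw [e1, e2] at h1
    exact Nat.dvd_of_mul_dvd_mul_right (Nat.succ_pos m) h1
  obtain ⟨j, rfl⟩ := hdvd
  refine ⟨⟨((g ^ j : Kˣ) : K), mem_Fx_three hK hφ _⟩, fun h => (g ^ j).ne_zero (congrArg Subtype.val h), ?_⟩
  change ((c : Fq φ) : K) * (((g ^ j : Kˣ) : K) * φ ((g ^ j : Kˣ) : K) * φ (φ ((g ^ j : Kˣ) : K))) = 1
  have h1 : g ^ ((q ^ 2 + q + 1) * j) = (Units.mk0 _ hc0)⁻¹ := hk
  have h2 : ((g ^ j : Kˣ) : K) * φ ((g ^ j : Kˣ) : K) * φ (φ ((g ^ j : Kˣ) : K)) =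
      ((g ^ ((q ^ 2 + q + 1) * j) : Kˣ) : K) := by
    rw [hφ, hφ, Units.val_pow_eq_pow_val, Units.val_pow_eq_pow_val, ← pow_mul, ← pow_mul, ← pow_add, ← pow_add]
    congr 1
    ring
  rw [h2, h1, Units.val_inv_eq_inv_val, Units.val_mk0, mul_inv_cancel₀ hc0]

include p hK in
/-- every element of the Levi subgroup acts as a matrix -/
theorem exists_rel (hq : IsPrimePow q) {l : ↥(twistedD4 K q)}
    (hl : l ∈ LJ cs Nodes.RGDTwD4.isCartan (Nodes.RGDTwD4.T K q) (Nodes.RGDTwD4.X φ q) {0}) :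
    ∃ A : GL (Fin 2) (Fq φ), Rel (Ph hφ hle 0) l A := by
  have R := Nodes.RGDTwD4.rgd (K := K) cs hK hφ p
  obtain ⟨g, hg, m, hm, rfl⟩ := (mem_LJ_iff_mul R {0}).1 hl
  rw [← range_Ph0 (p := p) hφ hle hK] at hm
  obtain ⟨a, rfl⟩ := hm
  have hg' := Subgroup.mem_subgroupOf.1 hg
  obtain ⟨t, s, hs, e⟩ := exists_hel hφ hq hK hg'
  have ht0 : (⟨t, mem_Fx_three hK hφ t⟩ : Fx φ ((Nodes.RGDTwNode.D4.rest 1).length + 1)) ≠ 0 :=
    fun h => t.ne_zero (congrArg Subtype.val h)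
  have hs0 : (⟨s, mem_Fx.2 (Function.iterate_fixed hs _)⟩ : Fx φ ((Nodes.RGDTwNode.D4.rest 0).length + 1)) ≠ 0 :=
    fun h => s.ne_zero (congrArg Subtype.val h)
  have e1 : g = Ph hφ hle 1 (hS ⟨t, mem_Fx_three hK hφ t⟩) *
      Ph hφ hle 0 (hS ⟨s, mem_Fx.2 (Function.iterate_fixed hs _)⟩) := by
    apply Subtype.ext
    rw [Subgroup.coe_mul, coe_hS0, coe_hS1, ← e, D4H1.hel_eq, hG_eq, hG_eq, hG_eq, hG_eq, mul_one, ← mul_assoc]
  have ht1 : φ (t : K) ≠ 0 := (map_ne_zero φ).2 t.ne_zero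
  have ht2 : φ (φ (t : K)) ≠ 0 := (map_ne_zero φ).2 ht1
  have hfix : φ ((t : K) * φ (t : K) * φ (φ (t : K))) = (t : K) * φ (t : K) * φ (φ (t : K)) := by
    have h3 : φ (φ (φ (t : K))) = t := mem_Fx.1 (mem_Fx_three hK hφ (t : K))
    rw [map_mul, map_mul, h3]
    ring
  have hN : ((t : K) * φ (t : K) * φ (φ (t : K)))⁻¹ ∈ Fx φ ((Nodes.RGDTwNode.D4.rest 0).length + 1) :=
    inv_mem (mem_Fx.2 (Function.iterate_fixed hfix _))
  have hN0 : (⟨((t : K) * φ (t : K) * φ (φ (t : K)))⁻¹, hN⟩ : Fq φ) ≠ 0 := fun h =>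
    inv_ne_zero (mul_ne_zero (mul_ne_zero t.ne_zero ht1) ht2) (congrArg Subtype.val h)
  rw [e1]
  exact ⟨_, ((rel_h hφ hle ht0 (c := Units.mk0 _ hN0) (inv_mul_cancel₀ (mul_ne_zero (mul_ne_zero t.ne_zero ht1)
    ht2))).mul (Rel.map _)).mul (Rel.map a)⟩

/-- a matrix which acts trivially -/
theorem cjS_eq_self {F : Type*} [Field F] {A : GL (Fin 2) F} (hA : A ∈ Subgroup.center (GL (Fin 2) F))
    (g : Matrix.SpecialLinearGroup (Fin 2) F) : cjS A g = g := by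
  apply cjS_eq_of
  have h1 := (Subgroup.mem_center_iff.1 hA (Matrix.SpecialLinearGroup.toGL g)).symm
  exact congrArg Units.val h1

include hφ hle hK in
/-- **The projection of the parabolic subgroup `P_{0}` of `³D₄(q)` onto `PGL₂(q)`.** -/
theorem exists_f (p : ℕ) [Fact p.Prime] [CharP K p] (hq : IsPrimePow q) :
    ∃ f : ↥(PJ cs Nodes.RGDTwD4.isCartan (Nodes.RGDTwD4.T K q) (Nodes.RGDTwD4.X φ q) {0}) →*
        Matrix.ProjGenLinGroup (Fin 2) (Fq φ), Function.Surjective f ∧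
      (∀ x : ↥(PJ cs Nodes.RGDTwD4.isCartan (Nodes.RGDTwD4.T K q) (Nodes.RGDTwD4.X φ q) {0}),
        (x : ↥(twistedD4 K q)) ∈ VJ cs Nodes.RGDTwD4.isCartan (Nodes.RGDTwD4.X φ q) {0} → f x = 1) ∧
      (∀ (x : ↥(PJ cs Nodes.RGDTwD4.isCartan (Nodes.RGDTwD4.T K q) (Nodes.RGDTwD4.X φ q) {0}))
        (g : Matrix.SpecialLinearGroup (Fin 2) (Fq φ)), (x : ↥(twistedD4 K q)) = Ph hφ hle 0 g →
        f x = Matrix.ProjGenLinGroup.mk (Matrix.SpecialLinearGroup.toGL g)) ∧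
      (∀ x : ↥(PJ cs Nodes.RGDTwD4.isCartan (Nodes.RGDTwD4.T K q) (Nodes.RGDTwD4.X φ q) {0}),
        (x : ↥(twistedD4 K q)) ∈ LJ cs Nodes.RGDTwD4.isCartan (Nodes.RGDTwD4.T K q) (Nodes.RGDTwD4.X φ q) {0} →
        (f x = 1 ↔ ∀ m ∈ MJ cs Nodes.RGDTwD4.isCartan (Nodes.RGDTwD4.X φ q) {0},
          (x : ↥(twistedD4 K q)) * m = m * x)) := by
  have : Finite CoxeterMatrix.G₂.Group := Nodes.RGDChev.finite_W Cfsg.Agent.BiChar.GTwo.isType cs
  have R := Nodes.RGDTwD4.rgd (K := K) cs hK hφ p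
  have hup : ∀ a b : Fq φ, Ph hφ hle 0 (up a) = Ph hφ hle 0 (up b) → a = b := fun a b => up_inj hφ hle 0
  have hud : ∀ a b : Fq φ, Ph hφ hle 0 (up a) = Ph hφ hle 0 (lo b) → a = 0 :=
    fun a b h => up_lo (p := p) hφ hle hK h
  obtain ⟨π, hπL, hπV⟩ := exists_projL R ({0} : Set (Fin 2))
  obtain ⟨f, hf⟩ := exists_hom (Φ := Ph hφ hle 0) hup hud (L := LJ cs Nodes.RGDTwD4.isCartan (Nodes.RGDTwD4.T K q)
    (Nodes.RGDTwD4.X φ q) {0}) fun l hl => exists_rel (p := p) hφ hle hK hq hl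
  have hML := MJ_le_LJ (cs := cs) (h := Nodes.RGDTwD4.isCartan) (T := Nodes.RGDTwD4.T K q)
    (X := Nodes.RGDTwD4.X φ q) ({0} : Set (Fin 2))
  have hΦM : ∀ g, Ph hφ hle 0 g ∈ MJ cs Nodes.RGDTwD4.isCartan (Nodes.RGDTwD4.X φ q) {0} := fun g => by
    rw [← range_Ph0 (p := p) hφ hle hK]
    exact ⟨g, rfl⟩
  refine ⟨f.comp π, ?_, ?_, ?_, ?_⟩
  · intro z
    obtain ⟨A, rfl⟩ := Matrix.ProjGenLinGroup.mk_surjective z
    obtain ⟨d, hd0, hd⟩ := exists_norm hφ hK (Matrix.GeneralLinearGroup.det A)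
    have hdet : (((dg (Matrix.GeneralLinearGroup.det A))⁻¹ * A : GL (Fin 2) (Fq φ)) :
        Matrix (Fin 2) (Fin 2) (Fq φ)).det = 1 := by
      have h1 : Matrix.GeneralLinearGroup.det ((dg (Matrix.GeneralLinearGroup.det A))⁻¹ * A) = 1 := by
        rw [map_mul, map_inv, inv_mul_eq_one]
        apply Units.ext
        rw [Matrix.GeneralLinearGroup.val_det_apply]
        change (!![((Matrix.GeneralLinearGroup.det A : (Fq φ)ˣ) : Fq φ), 0; 0, 1] :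
          Matrix (Fin 2) (Fin 2) (Fq φ)).det = _
        rw [Matrix.det_fin_two_of, mul_one, mul_zero, sub_zero]
      have h2 := congrArg Units.val h1
      rwa [Matrix.GeneralLinearGroup.val_det_apply] at h2
    have hA : A = dg (Matrix.GeneralLinearGroup.det A) * Matrix.SpecialLinearGroup.toGL ⟨_, hdet⟩ := by
      have h1 : (Matrix.SpecialLinearGroup.toGL ⟨_, hdet⟩ : GL (Fin 2) (Fq φ)) =
          (dg (Matrix.GeneralLinearGroup.det A))⁻¹ * A := by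
        apply Units.ext
        rfl
      rw [h1, mul_inv_cancel_left]
    have hmem : Ph hφ hle 1 (hS d) * Ph hφ hle 0 ⟨_, hdet⟩ ∈ LJ cs Nodes.RGDTwD4.isCartan (Nodes.RGDTwD4.T K q)
        (Nodes.RGDTwD4.X φ q) {0} :=
      mul_mem (Subgroup.mem_sup_left (Cfsg.Agent.BiChar.TwDFour.Ph_hS hφ hle 1 hd0)) (hML (hΦM _))
    refine ⟨⟨_, LJ_le_PJ hmem⟩, ?_⟩
    rw [MonoidHom.comp_apply, hπL _ hmem, hf _ hmem _ ((rel_h hφ hle hd0 hd).mul (Rel.map _)), ← hA]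
  · intro x hx
    rw [MonoidHom.comp_apply]
    have h1 : π x = 1 := hπV x.1 hx
    rw [h1, map_one]
  · intro x g hxg
    have h1 : (x : ↥(twistedD4 K q)) ∈ LJ cs Nodes.RGDTwD4.isCartan (Nodes.RGDTwD4.T K q)
        (Nodes.RGDTwD4.X φ q) {0} := by
      rw [hxg]
      exact hML (hΦM g)
    have h2 : π x = ⟨x.1, h1⟩ := hπL x.1 h1
    rw [MonoidHom.comp_apply, h2]
    refine hf _ h1 _ ?_
    rw [hxg]
    exact Rel.map g
  · intro x hx
    have h2 : π x = ⟨x.1, hx⟩ := hπL x.1 hx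
    rw [MonoidHom.comp_apply, h2]
    constructor
    · intro h1 m hm
      obtain ⟨A, hA⟩ := exists_rel (p := p) hφ hle hK hq hx
      rw [hf _ hx A hA, Matrix.ProjGenLinGroup.mk_eq_one] at h1
      rw [← range_Ph0 (p := p) hφ hle hK] at hm
      obtain ⟨g, rfl⟩ := hm
      have h3 := hA g
      rw [cjS_eq_self h1, mul_inv_eq_iff_eq_mul] at h3
      exact h3
    · intro h1
      have h3 : Rel (Ph hφ hle 0) (x : ↥(twistedD4 K q)) 1 := fun g => by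
        rw [cjS_one, mul_inv_eq_iff_eq_mul]
        exact h1 _ (hΦM g)
      rw [hf _ hx 1 h3, map_one]

theorem Fx_eq (φ : K →+* K) : Fx φ ((Nodes.RGDTwNode.D4.rest 0).length + 1) =
    RingHom.eqLocusField φ (RingHom.id K) := by
  ext a
  rw [mem_Fx]
  exact Iff.rfl

include hφ hK in
/-- **The projection of `P_{0}` onto `PGL₂(F_q)`**, with the field of fixed points of `φ` in Mathlib's form. -/
theorem exists_f₀ (p : ℕ) [Fact p.Prime] [CharP K p] (hq : IsPrimePow q) :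
    ∃ f : ↥(PJ cs Nodes.RGDTwD4.isCartan (Nodes.RGDTwD4.T K q) (Nodes.RGDTwD4.X φ q) {0}) →*
        Matrix.ProjGenLinGroup (Fin 2) ↥(RingHom.eqLocusField φ (RingHom.id K)), Function.Surjective f ∧
      (∀ x : ↥(PJ cs Nodes.RGDTwD4.isCartan (Nodes.RGDTwD4.T K q) (Nodes.RGDTwD4.X φ q) {0}),
        (x : ↥(twistedD4 K q)) ∈ VJ cs Nodes.RGDTwD4.isCartan (Nodes.RGDTwD4.X φ q) {0} → f x = 1) ∧
      (∀ (x : ↥(PJ cs Nodes.RGDTwD4.isCartan (Nodes.RGDTwD4.T K q) (Nodes.RGDTwD4.X φ q) {0}))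
        (t : ↥(RingHom.eqLocusField φ (RingHom.id K))),
        ((x : ↥(twistedD4 K q)) : GL chevD4.Idx K) = Elts.xG Nodes.RGDTwD4.hp.inList 14 (t : K) →
        f x = Matrix.ProjGenLinGroup.mk (Matrix.SpecialLinearGroup.toGL (up t))) ∧
      (∀ x : ↥(PJ cs Nodes.RGDTwD4.isCartan (Nodes.RGDTwD4.T K q) (Nodes.RGDTwD4.X φ q) {0}),
        (x : ↥(twistedD4 K q)) ∈ LJ cs Nodes.RGDTwD4.isCartan (Nodes.RGDTwD4.T K q) (Nodes.RGDTwD4.X φ q) {0} →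
        (f x = 1 ↔ ∀ m ∈ MJ cs Nodes.RGDTwD4.isCartan (Nodes.RGDTwD4.X φ q) {0},
          (x : ↥(twistedD4 K q)) * m = m * x)) := by
  have hle := D4Fixed.twisted_le_fix hK hφ
  obtain ⟨f, h1, h2, h3, h4⟩ := exists_f hφ hle hK p hq
  rw [← Fx_eq]
  exact ⟨f, h1, h2, fun x t hx => h3 x (up t) (Subtype.ext (hx.trans (coe_up0 hφ hle t).symm)), h4⟩

end Cfsg.Agent.H383.HT.Proj
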